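import Cfsg.Agent.H3.Mu.A7.Tab

/-! Generated labelled table of a central extension. -/

set_option autoImplicit false
set_option maxRecDepth 100000

open Cfsg.Agent.L0

namespace Cfsg.Agent.H3.A7

noncomputable def L2Erowt0 : BT := .leaf (nat_lit 0xdbd9dee7eddcb2e1b4abeee9aeb1a9c3aac9edb8a29fbbb29295cfeec3e5e78f9ddaa792cd9a8fcea490b8ec87cbd9d1d9daef8eb482ee83d99386dadcdf83e584ef82eedc94e0dfd581d18cd286867bb87eb2d784a37ba4d7bae1b3d6a87bb89d76e6e38c7490799575bfe3a8abaee0b170eb9971c76bae66697fc8bdc3647c69a6b6bfc7638deae6668aa6a57d8f60c588635fcc64a78a5d64c65ed259805ae885d0e9d57159e0a5578b84c55aa385ed57df58e8d05853d5ec99ea5462ca50c851cb6754eaa14f515c52549fca4feceb527153ead14fca5ec14dc5e4bd5a4bc0d3e3b758d2e94b80b55449984c96ad527149e872ab7447e4904ccf6ce347774a7850c8a16845b1726f4441a16a8fe6ccd9623ee43f75dc42e6e26c3f9d40cc3ee4e2dfc0953a3dc2d7cf7f61bdb63968c038bf3d61787dd637e03addd4bbb437b7dbd2dedcda3e37d836d6bb3da37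b8d35c6d55c3a89c535c0563881d4d235d0369acc7733896d32cf789a3c46ce3292cc2f9c6b2b6f2c9f96ca9ec8b82ba945967229482a79913247299a96442a25c87363c6c4998b22c2233bae26c6be3823bd24c422c2beb19569c05e5b88218bbc611dbe31a61c1fbcad7f4db61b60bb2da4b4bab31bb8a21ab61fb47d4bac19b11cafa0aaa819b2ad9eb0aeac22199818acaa1fa8495d17a6a19d1c57a417a29b1a4fa09e176f18769c9a6c17332a6b9713986f26112f14933024281196912d94929083118e358c8880770e7e0f6687148c7c650f8a12887a86840f82800e7e7c7a1f3d47756d780d7642200b2f5e270a0d42307415410921735a246e726b09704408410d6e6c133107140a67422c13076a654068666451076206312c0d6011175c564e34044c055e550a5c4a5a0558085648545205504e044c4a48461f2f0327433b0a292403443908214240033e063c3a38360334032e28203200140130271d2e122c012a1b281026240122201e1c1a180116001412100e0d0c0a08060402)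

noncomputable def L2Erowtree : BT := L2Erowt0

noncomputable def L2Erow : ℕ → ℕ := rowOf L2Erowtree (nat_lit 7) (nat_lit 127) (nat_lit 48) (nat_lit 0xffffffffffff)

noncomputable def L2E : ℕ → ℕ → ℕ := pT L2Erow (nat_lit 8) (nat_lit 255)

def L2RL : List (List ℕ × ℕ) := [([nat_lit 0, nat_lit 5], nat_lit 0),
  ([nat_lit 1, nat_lit 1], nat_lit 1),
  ([nat_lit 2, nat_lit 2], nat_lit 1),
  ([nat_lit 3, nat_lit 3], nat_lit 1),
  ([nat_lit 4, nat_lit 4], nat_lit 1),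
  ([nat_lit 5, nat_lit 0], nat_lit 0),
  ([nat_lit 0, nat_lit 0, nat_lit 0], nat_lit 1),
  ([nat_lit 1, nat_lit 0, nat_lit 1, nat_lit 0, nat_lit 1, nat_lit 0], nat_lit 0),
  ([nat_lit 2, nat_lit 0, nat_lit 2, nat_lit 0], nat_lit 1),
  ([nat_lit 2, nat_lit 1, nat_lit 2, nat_lit 1, nat_lit 2, nat_lit 1], nat_lit 0),
  ([nat_lit 3, nat_lit 0, nat_lit 3, nat_lit 0], nat_lit 1),
  ([nat_lit 3, nat_lit 1, nat_lit 3, nat_lit 1], nat_lit 1),
  ([nat_lit 3, nat_lit 2, nat_lit 3, nat_lit 2, nat_lit 3, nat_lit 2], nat_lit 0),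
  ([nat_lit 4, nat_lit 0, nat_lit 4, nat_lit 0], nat_lit 1),
  ([nat_lit 4, nat_lit 1, nat_lit 4, nat_lit 1], nat_lit 1),
  ([nat_lit 4, nat_lit 2, nat_lit 4, nat_lit 2], nat_lit 1),
  ([nat_lit 4, nat_lit 3, nat_lit 4, nat_lit 3, nat_lit 4, nat_lit 3], nat_lit 0)]

noncomputable def L2chkf : ℕ → Bool := relChkL L2E (nat_lit 1) (nat_lit 1) (nat_lit 1) (nat_lit 2) (nat_lit 120) [nat_lit 0, nat_lit 1, nat_lit 2, nat_lit 3, nat_lit 4, nat_lit 5] L2RL

theorem L2chkb0 : allR L2chkf 7 0 = true := by decide +kernel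

theorem L2chk : ∀ c < 120, L2chkf c = true := fun c hc =>
  allR_glue (d := 7) (n := 1) (forall_lt_succ' forall_lt_zero' L2chkb0) c (lt_of_lt_of_le hc (by norm_num))

theorem L2rep : Rep 6 R (ZMod 2) 1 (valL L2RL 2) :=
  rep_of_chk (by decide +kernel) (by decide) (by decide) (by decide +kernel) (by decide +kernel)
    (by decide +kernel) le_rfl L2chk

end Cfsg.Agent.H3.A7
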